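import Cfsg.Agent.SL2Displacement.Main
import Cfsg.Prelude.Def_Transfer

/-!
The displacement bound for a subgroup isomorphic to `SL₂(q)` inside an ambient group.
-/

set_option autoImplicit false
set_option linter.unusedSectionVars false
set_option linter.style.haveILetI false

namespace CfsgLib.SL2Displacement

open CfsgLib.SL2Pair

theorem le_relIndex {G : Type*} [Group G] [Finite G] {p : ℕ} [Fact p.Prime] (V H : Subgroup G)
    (hV : Cfsg.IsElementaryAbelian p V) (hHV : H ≤ Subgroup.normalizer (V : Set G))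
    (hf : H ⊓ Subgroup.centralizer (V : Set G) = ⊥) {F : Type*} [Field F] [Fintype F] (n : ℕ)
    (hF : Fintype.card F = p ^ n) (e : ↥H ≃* Matrix.SpecialLinearGroup (Fin 2) F)
    {g : G} (hgH : g ∈ H) (hgp : g ^ p ^ n = 1) (hg1 : g ≠ 1) :
    p ^ n ≤ (V ⊓ Subgroup.centralizer ({g} : Set G)).relIndex V := by
  classical
  have hn : 1 ≤ n := by
    by_contra h
    rw [show n = 0 by omega, pow_zero] at hF
    have := Fintype.one_lt_card (α := F)
    omega
  haveI : CharP F p := charP_of_card_eq_prime_pow (p := p) (f := n) hF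
  letI : CommGroup V := { (inferInstance : Group V) with mul_comm := fun a b => hV.1.is_comm.comm a b }
  have hVp : IsPGroup p V := fun v => ⟨1, by rw [pow_one]; exact Subtype.ext (hV.2 v v.2)⟩
  let γ : H →* MulAut V := (Subgroup.normalizerMonoidHom V).comp (Subgroup.inclusion hHV)
  have hγ : ∀ (h : H) (v : V), (γ h v : G) = h * v * (h : G)⁻¹ := fun h v => rfl
  have hγi : Function.Injective γ := by
    rw [injective_iff_map_eq_one]
    intro h hh
    refine Subtype.ext (Subgroup.mem_bot.1 (hf ▸ Subgroup.mem_inf.2 ⟨h.2, ?_⟩))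
    refine Subgroup.mem_centralizer_iff.2 fun v hv => ?_
    have h2 := congrArg (fun f : MulAut V => ((f ⟨v, hv⟩ : V) : G)) hh
    simp only [hγ, MulAut.one_apply] at h2
    exact (mul_inv_eq_iff_eq_mul.1 h2).symm
  let ρ : Matrix.SpecialLinearGroup (Fin 2) F →* MulAut V := γ.comp e.symm.toMonoidHom
  have hρ : Function.Injective ρ := hγi.comp e.symm.injective
  set gH : H := ⟨g, hgH⟩
  -- the image is conjugate to an upper unipotent element
  have hgp' : e gH ^ p = 1 ∨ ∃ k, e gH ^ p ^ k ≠ 1 ∧ e gH ^ p ^ (k + 1) = 1 := by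
    have h : e gH ^ p ^ n = 1 := by rw [← map_pow, show gH ^ p ^ n = 1 from Subtype.ext hgp, map_one]
    have hne : e gH ≠ 1 := fun h => hg1 (congrArg Subtype.val (e.injective (h.trans (map_one e).symm)))
    obtain ⟨k, -, hk⟩ := (Nat.dvd_prime_pow (Fact.out : p.Prime)).1 (orderOf_dvd_of_pow_eq_one h)
    rcases Nat.eq_zero_or_pos k with rfl | hk0
    · exact absurd (orderOf_eq_one_iff.1 (hk.trans (pow_zero p))) hne
    · refine Or.inr ⟨k - 1, fun h1 => ?_, ?_⟩
      · have h2 := Nat.le_of_dvd (pow_pos (Fact.out : p.Prime).pos _) (orderOf_dvd_of_pow_eq_one h1)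
        rw [hk] at h2
        exact absurd h2 (not_le.2 (Nat.pow_lt_pow_right (Fact.out : p.Prime).one_lt (by omega)))
      · rw [show k - 1 + 1 = k by omega, ← hk, pow_orderOf_eq_one]
  obtain ⟨j, hj1, hj2⟩ : ∃ j, e gH ^ p ^ j ≠ 1 ∧ (e gH ^ p ^ j) ^ p = 1 := by
    rcases hgp' with h | ⟨k, hk1, hk2⟩
    · exact ⟨0, by
        rw [pow_zero, pow_one]
        exact fun h1 => hg1 (congrArg Subtype.val (e.injective (h1.trans (map_one e).symm))), by simpa using h⟩
    · exact ⟨k, hk1, by rw [← pow_mul, ← pow_succ]; exact hk2⟩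
  obtain ⟨c, s, hcs⟩ := exists_conj_up hj2
  have hs : s ≠ 0 := fun h => hj1 (by rw [hcs, h, up_zero, mul_one, mul_inv_cancel])
  have hb := le_card_range_up hVp n hF ρ hρ hs
  rw [← card_range_conj (ρ (up s)) (ρ c), ← map_inv, ← map_mul, ← map_mul, ← hcs, map_pow] at hb
  have hρg : ρ (e gH) = γ gH := by
    show γ (e.symm (e gH)) = _
    rw [e.symm_apply_apply]
  rw [hρg] at hb
  refine hb.trans ((Nat.card_mono (Set.toFinite _) (range_pow_le _ _)).trans (le_of_eq ?_))
  refine (card_range_eq_index (γ gH) ((V ⊓ Subgroup.centralizer ({g} : Set G)).subgroupOf V) fun v => ?_).symm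
  rw [Subgroup.mem_subgroupOf, Subgroup.mem_inf, Subgroup.mem_centralizer_singleton_iff, and_iff_right v.2]
  constructor
  · intro h
    apply Subtype.ext
    rw [hγ]
    exact mul_inv_eq_iff_eq_mul.2 h.symm
  · intro h
    have h2 := congrArg Subtype.val h
    rw [hγ] at h2
    exact (mul_inv_eq_iff_eq_mul.1 h2).symm

end CfsgLib.SL2Displacement
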